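import Groth.Agent.Lib.DiagRed13.Ker

/-!
# Reduction to the diagonal for intersection multiplicities
-/

set_option autoImplicit false
set_option backward.isDefEq.respectTransparency false
set_option backward.isDefEq.respectTransparency.types false
set_option linter.style.haveILetI false
set_option maxHeartbeats 4000000

universe u

open CategoryTheory CategoryTheory.Limits AlgebraicGeometry TopologicalSpace
open scoped TensorProduct

namespace GrothLib.DiagRed13

/-- Reduction to the diagonal. -/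
theorem mult_eq_mult_diagonal {K : Type u} [Field K] {X : Scheme.{u}} (f : X ⟶ Spec (CommRingCat.of K)) [Smooth f]
    [IsSeparated f] (IV IW : X.IdealSheafData) (ξ : X) :
    IntMult.mult IV IW ξ = IntMult.mult
      (pullback.map (IV.subschemeι ≫ f) (IW.subschemeι ≫ f) f f IV.subschemeι IW.subschemeι (𝟙 _)
        (Category.comp_id _) (Category.comp_id _)).ker
      (pullback.diagonal f).ker (pullback.diagonal f ξ) := by
  rw [ker_pullback_map f f IV.subschemeι IW.subschemeι, IV.ker_subschemeι, IW.ker_subschemeι]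
  obtain ⟨_, ⟨U, hU, rfl⟩, hξU, -⟩ :=
    X.isBasis_affineOpens.exists_subset_of_mem_open (Set.mem_univ ξ) isOpen_univ
  have hU : IsAffineOpen U := hU
  obtain ⟨ψ, hψ, hψ'⟩ := GrothLib.Dim.exists_finiteType_specMap f hU
  have hsm : ψ.hom.Smooth := by
    rw [← HasRingHomProperty.Spec_iff (P := @Smooth), ← hψ']
    infer_instance
  obtain ⟨P', rfl⟩ : ∃ P', hU.fromSpec P' = ξ := ⟨_, hU.fromSpec_primeIdealOf ⟨ξ, hξU⟩⟩
  algebraize [ψ.hom]
  haveI : Algebra.FiniteType K Γ(X, U) := hψ
  haveI : Algebra.Smooth K Γ(X, U) := hsm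
  let R := Γ(X, U)
  let P : Ideal Γ(X, U) := P'.asIdeal
  haveI : P.IsPrime := P'.isPrime
  have hw : Spec.map (CommRingCat.ofHom (algebraMap K Γ(X, U))) ≫ 𝟙 _ = hU.fromSpec ≫ f := by
    rw [Category.comp_id, hψ']; rfl
  let j : Spec (CommRingCat.of (Γ(X, U) ⊗[K] Γ(X, U))) ⟶ pullback f f :=
    (pullbackSpecIso K Γ(X, U) Γ(X, U)).inv ≫
      pullback.map (Spec.map (CommRingCat.ofHom (algebraMap K Γ(X, U))))
        (Spec.map (CommRingCat.ofHom (algebraMap K Γ(X, U)))) f f hU.fromSpec hU.fromSpec (𝟙 _) hw hw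
  let mu : Spec Γ(X, U) ⟶ Spec (CommRingCat.of (Γ(X, U) ⊗[K] Γ(X, U))) :=
    Spec.map (CommRingCat.ofHom (Diag.mulHom K Γ(X, U)))
  let pl : Γ(X, U) ⟶ CommRingCat.of (Γ(X, U) ⊗[K] Γ(X, U)) := CommRingCat.ofHom (Diag.inL K Γ(X, U))
  let pr : Γ(X, U) ⟶ CommRingCat.of (Γ(X, U) ⊗[K] Γ(X, U)) := CommRingCat.ofHom (Diag.inR K Γ(X, U))
  have hjl : j ≫ pullback.fst f f = Spec.map pl ≫ hU.fromSpec := by
    rw [Category.assoc, pullback.lift_fst, pullbackSpecIso_inv_fst_assoc]
  have hjr : j ≫ pullback.snd f f = Spec.map pr ≫ hU.fromSpec := by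
    rw [Category.assoc, pullback.lift_snd, pullbackSpecIso_inv_snd_assoc]; rfl
  have hmu : mu ≫ j = hU.fromSpec ≫ pullback.diagonal f := by
    have hl : mu ≫ Spec.map pl = 𝟙 _ := by
      rw [← Spec.map_comp, ← CommRingCat.ofHom_comp, Diag.mul_inL]; exact Spec.map_id _
    have hr : mu ≫ Spec.map pr = 𝟙 _ := by
      rw [← Spec.map_comp, ← CommRingCat.ofHom_comp, Diag.mul_inR]; exact Spec.map_id _
    refine pullback.hom_ext ?_ ?_
    · rw [Category.assoc, hjl, reassoc_of% hl, Category.assoc, pullback.diagonal_fst, Category.comp_id]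
    · rw [Category.assoc, hjr, reassoc_of% hr, Category.assoc, pullback.diagonal_snd, Category.comp_id]
  let Qp : Spec (CommRingCat.of (Γ(X, U) ⊗[K] Γ(X, U))) := ⟨Diag.Q K P, inferInstance⟩
  have hQp : mu P' = Qp := rfl
  rw [show pullback.diagonal f (hU.fromSpec P') = j Qp from by
    rw [← Scheme.Hom.comp_apply, ← hmu, Scheme.Hom.comp_apply, hQp]]
  let s : (pullback f f).presheaf.stalk (j Qp) ≃+* Localization.AtPrime (Diag.Q K P) :=
    (asIso (j.stalkMap Qp) ≪≫ Spec.stalkIso _ Qp).commRingCatIsoToRingEquiv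
  -- stalks of the ideals
  have hs : ∀ I : (pullback f f).IdealSheafData, (IntMult.stalkIdeal I (j Qp)).map s.toRingHom =
      (CartierDescent.stalkIdeal (I.comap j) Qp).map (Spec.stalkIso _ Qp).hom.hom := fun I => by
    rw [IntMult3.stalkIdeal_eq, CartierDescent.stalkIdeal_comap, Ideal.map_map]
    rfl
  -- the setting
  obtain ⟨D₀, hil, hir, hμ, -⟩ := Diag.exists_setting K P
  let _ := TopCat.Presheaf.algebra_section_stalk X.presheaf (⟨hU.fromSpec P', hξU⟩ : U)
  haveI hloc := hU.isLocalization_stalk' P' hξU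
  let ea := IsLocalization.algEquiv P.primeCompl (X.presheaf.stalk (hU.fromSpec P')) (Localization.AtPrime P)
  let eb : Localization.AtPrime (Diag.Q K P) ≃+* (pullback f f).presheaf.stalk (j Qp) := s.symm
  let D := transportB (D₀.transport ea.toRingEquiv) eb
  have hmap : ∀ a : Ideal Γ(X, U), (a.map (algebraMap Γ(X, U) (X.presheaf.stalk (hU.fromSpec P')))).map
      ea.toRingEquiv.toRingHom = a.map (algebraMap Γ(X, U) (Localization.AtPrime P)) := by
    intro a
    rw [Ideal.map_map]
    congr 1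
    exact RingHom.ext fun r => ea.commutes r
  have hX : ∀ I : X.IdealSheafData, IntMult.stalkIdeal I (hU.fromSpec P') =
      (I.ideal ⟨U, hU⟩).map (algebraMap Γ(X, U) (X.presheaf.stalk (hU.fromSpec P'))) := fun I => by
    rw [GrothLib.IntMult3.stalkIdeal_eq, GrothLib.CartierDescent.stalkIdeal_eq I ⟨U, hU⟩ hξU]; rfl
  unfold IntMult.mult
  rw [hX, hX, chi_eq_chi D _ _ (quotFlat_transportB eb
    (Diag.quotFlat_comp ea.toRingEquiv (hmap _) (by rw [hil, hir]; exact Diag.flat_quot_br K P _)))]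
  have hinj : ∀ a b : Ideal ((pullback f f).presheaf.stalk (j Qp)),
      a.map s.toRingHom = b.map s.toRingHom → a = b := fun a b h => by
    rw [← Ideal.comap_map_of_bijective s.toRingHom s.bijective (I := a),
      ← Ideal.comap_map_of_bijective s.toRingHom s.bijective (I := b), h]
  have hD : RingHom.ker D.μ = IntMult.stalkIdeal (pullback.diagonal f).ker (j Qp) := by
    refine hinj _ _ ?_
    rw [hs, ker_diagonal_comap f j hU.fromSpec mu (Spec.map pl) hmu hjl.symm, stalkIdeal_ker_spec]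
    rw [CommRingCat.hom_ofHom]
    have h1 : RingHom.ker D.μ = (RingHom.ker D₀.μ).map eb.toRingHom := by
      rw [D.ker, D₀.ker, Ideal.map_ofList]; rfl
    rw [h1, Ideal.map_map, show s.toRingHom.comp eb.toRingHom = RingHom.id _ from
      RingHom.ext fun x => s.apply_symm_apply x, Ideal.map_id, hμ]
    show RingHom.ker (Diag.bμ K P) = (RingHom.ker (Diag.mulHom K Γ(X, U))).map
      (algebraMap (Γ(X, U) ⊗[K] Γ(X, U)) (Localization.AtPrime (Diag.Q K P)))
    refine le_antisymm (fun z hz => ?_) (Ideal.map_le_iff_le_comap.2 fun z hz => ?_)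
    · obtain ⟨⟨a, t⟩, rfl⟩ := IsLocalization.mk'_surjective (Diag.Q K P).primeCompl z
      rw [RingHom.mem_ker, Diag.bμ, Localization.localRingHom_mk', IsLocalization.mk'_eq_zero_iff] at hz
      obtain ⟨⟨c, hc⟩, hca⟩ := hz
      refine (IsLocalization.mk'_mem_map_algebraMap_iff _ _ _ _ _).2
        ⟨Diag.inL K Γ(X, U) c, ?_, ?_⟩
      · show Diag.mulHom K Γ(X, U) (Diag.inL K Γ(X, U) c) ∉ P
        rw [← RingHom.comp_apply, Diag.mul_inL]
        exact hc
      · rw [RingHom.mem_ker, map_mul, ← RingHom.comp_apply, Diag.mul_inL]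
        exact hca
    · show Diag.bμ K P (algebraMap _ _ z) = 0
      rw [Diag.bμ, Localization.localRingHom_to_map, RingHom.mem_ker.1 hz, map_zero]
  have hJ : ((IV.ideal ⟨U, hU⟩).map (algebraMap Γ(X, U) (X.presheaf.stalk (hU.fromSpec P')))).map D.il ⊔
      ((IW.ideal ⟨U, hU⟩).map (algebraMap Γ(X, U) (X.presheaf.stalk (hU.fromSpec P')))).map D.ir =
      IntMult.stalkIdeal (IV.comap (pullback.fst f f) ⊔ IW.comap (pullback.snd f f)) (j Qp) := by
    refine hinj _ _ ?_
    rw [hs, Scheme.IdealSheafData.comap_sup, ← Scheme.IdealSheafData.comap_comp,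
      ← Scheme.IdealSheafData.comap_comp, hjl, hjr,
      CartierDescent.stalkIdeal_eq _ (⟨⊤, isAffineOpen_top _⟩ : (Spec _).affineOpens) (x := Qp) trivial,
      Scheme.IdealSheafData.ideal_sup, Pi.sup_apply, Ideal.map_sup, Ideal.map_sup,
      ← CartierDescent.stalkIdeal_eq, ← CartierDescent.stalkIdeal_eq, Ideal.map_sup,
      stalkIdeal_comap_spec IV hU pl Qp, stalkIdeal_comap_spec IW hU pr Qp]
    have key : ∀ (g : Localization.AtPrime P →+* Localization.AtPrime (Diag.Q K P)) (a : Ideal Γ(X, U)),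
        ((a.map (algebraMap Γ(X, U) (X.presheaf.stalk (hU.fromSpec P')))).map
          (eb.toRingHom.comp (g.comp ea.toRingEquiv.toRingHom))).map s.toRingHom =
        (a.map (algebraMap Γ(X, U) (Localization.AtPrime P))).map g := fun g a => by
      rw [← Ideal.map_map, ← Ideal.map_map, hmap, Ideal.map_map _ s.toRingHom,
        show s.toRingHom.comp eb.toRingHom = RingHom.id _ from
          RingHom.ext fun x => s.apply_symm_apply x, Ideal.map_id]
    show (((IV.ideal ⟨U, hU⟩).map _).map (eb.toRingHom.comp (D₀.il.comp ea.toRingEquiv.toRingHom))).map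
        s.toRingHom ⊔ (((IW.ideal ⟨U, hU⟩).map _).map
          (eb.toRingHom.comp (D₀.ir.comp ea.toRingEquiv.toRingHom))).map s.toRingHom = _
    refine (congrArg₂ (fun a b => a ⊔ b) ((key D₀.il _).trans ((congrArg (fun g : Localization.AtPrime P →+* Localization.AtPrime (Diag.Q K P) => Ideal.map g _) hil).trans (Diag.map_bl K P _))) ((key D₀.ir _).trans ((congrArg (fun g : Localization.AtPrime P →+* Localization.AtPrime (Diag.Q K P) => Ideal.map g _) hir).trans (Diag.map_br K P _)))).trans ?_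
    rw [Ideal.map_map, Ideal.map_map]
    rfl
  rw [hD, hJ]

end GrothLib.DiagRed13
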