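import Groth.Agent.Lib.Diag.Scheme
import Groth.Agent.Lib.HorizCart29.Point
import Groth.Agent.Lib.CartierDescent.Normal
import Groth.Agent.Lib.KoszulEuler.TorLen

/-!
# Ideals of products and diagonals of schemes, and transport of diagonal settings
-/

set_option autoImplicit false
set_option backward.isDefEq.respectTransparency false
set_option linter.style.haveILetI false

universe u

open CategoryTheory CategoryTheory.Limits AlgebraicGeometry TopologicalSpace RingTheory.Sequence

namespace GrothLib.DiagRed13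

/-- The ideal of a fibre product of closed subschemes. -/
theorem ker_pullback_map {X Y S V W : Scheme.{u}} (f : X ⟶ S) (g : Y ⟶ S) (i : V ⟶ X) (i' : W ⟶ Y)
    [IsClosedImmersion i] [IsClosedImmersion i'] :
    (pullback.map (i ≫ f) (i' ≫ g) f g i i' (𝟙 _) (Category.comp_id _) (Category.comp_id _)).ker =
      i.ker.comap (pullback.fst f g) ⊔ i'.ker.comap (pullback.snd f g) := by
  let h := pullback.map (i ≫ f) (i' ≫ g) f g i i' (𝟙 _) (Category.comp_id _) (Category.comp_id _)
  let J := i.ker.comap (pullback.fst f g) ⊔ i'.ker.comap (pullback.snd f g)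
  refine le_antisymm ?_ (sup_le ?_ ?_)
  · have h₁ : i.ker ≤ (J.subschemeι ≫ pullback.fst f g).ker := by
      rw [← Scheme.IdealSheafData.map_ker, Scheme.IdealSheafData.le_map_iff_comap_le, J.ker_subschemeι]
      exact le_sup_left
    have h₂ : i'.ker ≤ (J.subschemeι ≫ pullback.snd f g).ker := by
      rw [← Scheme.IdealSheafData.map_ker, Scheme.IdealSheafData.le_map_iff_comap_le, J.ker_subschemeι]
      exact le_sup_right
    let a := IsClosedImmersion.lift i _ h₁
    let b := IsClosedImmersion.lift i' _ h₂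
    have ha : a ≫ i = J.subschemeι ≫ pullback.fst f g := IsClosedImmersion.lift_fac _ _ _
    have hb : b ≫ i' = J.subschemeι ≫ pullback.snd f g := IsClosedImmersion.lift_fac _ _ _
    let l : J.subscheme ⟶ pullback (i ≫ f) (i' ≫ g) := pullback.lift a b (by
      rw [reassoc_of% ha, reassoc_of% hb, pullback.condition])
    have hl : l ≫ h = J.subschemeι := pullback.hom_ext
      (by rw [Category.assoc, pullback.lift_fst, pullback.lift_fst_assoc, ha])
      (by rw [Category.assoc, pullback.lift_snd, pullback.lift_snd_assoc, hb])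
    refine (Scheme.Hom.le_ker_comp l h).trans ?_
    rw [hl, J.ker_subschemeι]
  · rw [← Scheme.IdealSheafData.le_map_iff_comap_le, Scheme.IdealSheafData.map_ker, pullback.lift_fst]
    exact Scheme.Hom.le_ker_comp _ _
  · rw [← Scheme.IdealSheafData.le_map_iff_comap_le, Scheme.IdealSheafData.map_ker, pullback.lift_snd]
    exact Scheme.Hom.le_ker_comp _ _

/-- The inverse image of the diagonal in a chart. -/
theorem ker_diagonal_comap {X S U P : Scheme.{u}} (f : X ⟶ S) [IsSeparated f] (j : P ⟶ pullback f f) [Mono j]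
    (r : U ⟶ X) (d : U ⟶ P) (q : P ⟶ U) (hd : d ≫ j = r ≫ pullback.diagonal f) (hq : q ≫ r = j ≫ pullback.fst f f) :
    (pullback.diagonal f).ker.comap j = d.ker := by
  refine le_antisymm ?_ ?_
  · rw [← Scheme.IdealSheafData.le_map_iff_comap_le, Scheme.IdealSheafData.map_ker, hd]
    exact Scheme.Hom.le_ker_comp _ _
  · let J := (pullback.diagonal f).ker.comap j
    have h₁ : (pullback.diagonal f).ker ≤ (J.subschemeι ≫ j).ker := by
      rw [← Scheme.IdealSheafData.map_ker, Scheme.IdealSheafData.le_map_iff_comap_le, J.ker_subschemeι]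
    let a := IsClosedImmersion.lift (pullback.diagonal f) _ h₁
    have ha : a ≫ pullback.diagonal f = J.subschemeι ≫ j := IsClosedImmersion.lift_fac _ _ _
    have hla : (J.subschemeι ≫ q) ≫ r = a := by
      rw [Category.assoc, hq, ← reassoc_of% ha, pullback.diagonal_fst, Category.comp_id]
    have hl : (J.subschemeι ≫ q) ≫ d = J.subschemeι := by
      rw [← cancel_mono j, Category.assoc, hd, ← Category.assoc, hla, ha]
    refine (Scheme.Hom.le_ker_comp (J.subschemeι ≫ q) d).trans ?_
    rw [hl, J.ker_subschemeι]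

/-- The stalk of an ideal sheaf pulled back to an affine scheme. -/
theorem stalkIdeal_comap_spec {X : Scheme.{u}} {A : CommRingCat.{u}} (I : X.IdealSheafData) {U : X.Opens}
    (hU : IsAffineOpen U) (φ : Γ(X, U) ⟶ A) (Q : Spec A) :
    (CartierDescent.stalkIdeal (I.comap (Spec.map φ ≫ hU.fromSpec)) Q).map (Spec.stalkIso A Q).hom.hom =
      (I.ideal ⟨U, hU⟩).map ((algebraMap A (Localization.AtPrime Q.asIdeal)).comp φ.hom) := by
  let g := Spec.map φ ≫ hU.fromSpec
  have hle : (⊤ : (Spec A).Opens) ≤ g ⁻¹ᵁ U := fun x _ => by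
    show hU.fromSpec (Spec.map φ x) ∈ U
    have := Set.mem_range_self (f := hU.fromSpec) (Spec.map φ x)
    rwa [hU.range_fromSpec] at this
  rw [CartierDescent.stalkIdeal_eq _ (⟨⊤, isAffineOpen_top _⟩ : (Spec A).affineOpens) (x := Q) trivial,
    BlowUp.ideal_comap_eq_map I g ⟨U, hU⟩ ⟨⊤, isAffineOpen_top _⟩ hle, Ideal.map_map, Ideal.map_map]
  congr 1
  have happ : g.appLE U ⊤ hle = φ ≫ (Scheme.ΓSpecIso A).inv := by
    rw [Scheme.Hom.appLE, Scheme.Hom.comp_app, hU.fromSpec_app_self, Scheme.ΓSpecIso_inv_naturality]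
    simp only [Category.assoc]
    congr 1
  rw [happ, ← CommRingCat.hom_comp, ← CommRingCat.hom_comp]
  have h : ((φ ≫ (Scheme.ΓSpecIso A).inv) ≫ (Spec A).presheaf.germ ⊤ Q trivial) ≫ (Spec.stalkIso A Q).hom =
      φ ≫ CommRingCat.ofHom (algebraMap A (Localization.AtPrime Q.asIdeal)) := by
    simp only [Category.assoc, Spec.germ_stalkMapIso_hom, Iso.inv_hom_id_assoc]
  exact congrArg CommRingCat.Hom.hom h

/-- The stalk of the ideal of an affine closed subscheme. -/
theorem stalkIdeal_ker_spec {A A' : CommRingCat.{u}} (φ : A ⟶ A') (Q : Spec A) :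
    (CartierDescent.stalkIdeal (Spec.map φ).ker Q).map (Spec.stalkIso A Q).hom.hom =
      (RingHom.ker φ.hom).map (algebraMap A (Localization.AtPrime Q.asIdeal)) := by
  rw [CartierDescent.stalkIdeal_eq _ (⟨⊤, isAffineOpen_top _⟩ : (Spec A).affineOpens) (x := Q) trivial,
    Scheme.Hom.ker_apply, Ideal.map_map]
  have hk : RingHom.ker ((Spec.map φ).app ⊤).hom = (RingHom.ker φ.hom).map (Scheme.ΓSpecIso A).inv.hom := by
    refine le_antisymm (fun x hx => ?_) (Ideal.map_le_iff_le_comap.2 fun a ha => ?_)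
    · have h := congrArg (fun t => t.hom x) (Scheme.ΓSpecIso_naturality φ)
      rw [CommRingCat.comp_apply, CommRingCat.comp_apply] at h
      refine ((Scheme.ΓSpecIso A).hom_inv_id_apply x) ▸ Ideal.mem_map_of_mem _ ?_
      rw [RingHom.mem_ker, ← h]
      exact (congrArg _ hx).trans (map_zero _)
    · show ((Spec.map φ).app ⊤) ((Scheme.ΓSpecIso A).inv a) = 0
      have h := congrArg (fun t => t.hom a) (Scheme.ΓSpecIso_inv_naturality φ)
      rw [CommRingCat.comp_apply, CommRingCat.comp_apply] at h
      exact h.symm.trans ((congrArg _ ha).trans (map_zero _))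
  rw [hk, Ideal.map_map, ← CommRingCat.hom_comp, ← CommRingCat.hom_comp]
  have h : (Scheme.ΓSpecIso A).inv ≫ (Spec A).presheaf.germ ⊤ Q trivial ≫ (Spec.stalkIso A Q).hom =
      CommRingCat.ofHom (algebraMap A (Localization.AtPrime Q.asIdeal)) := by
    simp only [Spec.germ_stalkMapIso_hom, Iso.inv_hom_id_assoc]
  exact congrArg (fun t : RingHom _ _ => (RingHom.ker φ.hom).map t) (congrArg CommRingCat.Hom.hom h)

/-- Transport of a setting along an isomorphism of the ambient ring. -/
noncomputable def transportB {O B B' : Type u} [CommRing O] [CommRing B] [CommRing B'] (D : Diag.Setting O B)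
    (e : B ≃+* B') : Diag.Setting O B' where
  il := e.toRingHom.comp D.il
  ir := e.toRingHom.comp D.ir
  μ := D.μ.comp e.symm.toRingHom
  g := D.g.map e
  μl a := by simp [D.μl]
  μr a := by simp [D.μr]
  ker := by
    rw [← RingHom.comap_ker, D.ker]
    exact (Ideal.comap_symm (I := Ideal.ofList D.g) e).trans (Ideal.map_ofList (e : B →+* B') D.g)
  reg := (e.toAddEquiv.isWeaklyRegular_congr (List.forall₂_map_right_iff.mpr
    (List.forall₂_same.mpr fun r _ x => map_mul e r x))).1 D.reg
  flat := RingHom.Flat.comp D.flat (RingHom.Flat.of_bijective (f := e.toRingHom) e.bijective)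

/-- Transport of the flatness hypothesis. -/
theorem quotFlat_transportB {O B B' : Type u} [CommRing O] [CommRing B] [CommRing B'] {il ir : O →+* B}
    (e : B ≃+* B') {p : Ideal O} (h : Diag.QuotFlat il ir p) :
    Diag.QuotFlat (e.toRingHom.comp il) (e.toRingHom.comp ir) p := by
  unfold Diag.QuotFlat Diag.FlatMod at h ⊢
  let E : (B ⧸ p.map il) ≃+* (B' ⧸ p.map (e.toRingHom.comp il)) :=
    Ideal.quotientEquiv _ _ e (Ideal.map_map il e.toRingHom).symm
  have hE : (Ideal.Quotient.mk (p.map (e.toRingHom.comp il))).comp (e.toRingHom.comp ir) =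
      E.toRingHom.comp ((Ideal.Quotient.mk (p.map il)).comp ir) := RingHom.ext fun a => rfl
  rw [hE]
  exact RingHom.Flat.comp h (RingHom.Flat.of_bijective (f := E.toRingHom) E.bijective)

/-- Reduction to the diagonal in a setting. -/
theorem chi_eq_chi {O B : Type u} [CommRing O] [CommRing B] (D : Diag.Setting O B) (p q : Ideal O)
    (hflat : Diag.QuotFlat D.il D.ir p) :
    IntMult.chi O (O ⧸ q) (O ⧸ p) = IntMult.chi B (B ⧸ RingHom.ker D.μ) (B ⧸ (p.map D.il ⊔ q.map D.ir)) := by
  rw [D.chi_eq p q hflat, D.ker]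
  exact (KoszulEuler.intMult_chi_eq D.g D.reg _).symm

end GrothLib.DiagRed13
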